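/-
The multiplier of Co2 is trivial.
-/
import Cfsg.Agent.Co2Mult.OKTwo
import Cfsg.Agent.Co2Mult.OKThree
import Cfsg.Agent.Co2Mult.OKFive
import Cfsg.Agent.CentralCert.Assemble
import Cfsg.Agent.CentralCert.StdLength

set_option autoImplicit false

namespace CfsgLib.Co2Mult

open Cfsg CfsgLib CfsgLib.Leech CfsgLib.CentralCert CfsgLib.Co0Model CfsgLib.OutConway

attribute [local irreducible] shortVecs halfTable quarterTable codeFinset

theorem card_H : Nat.card OutConway.Two.H = 42305421312000 :=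
  card_stabilizer_32 (by show Cfsg.sqNorm (CfsgLib.Leech.stdC none) = 32; decide +kernel)

/-- The index of each subgroup annihilates the kernel. -/
theorem pow_eq_one (D : Upper) (p : ℕ) (prog : List (ℕ × ℕ)) (sel codes : List ℕ)
    (hc : pick oneCode (slpN oneCode mmul prog base 3) sel = codes)
    (hNF : D.NF = stdWords p 0 D.W.length) (he : D.e = [])
    (h1 : D.relsOK oneCode mmul codes = true)
    {pg : List ℕ} (hT : D.sTab oneCode mmul codes = pg) (hp : 0 < p)
    (hsh : pcShape D.rels p D.W.length = true) {segs : List (ℕ × List (List ℕ))}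
    (h2 : segsOK p pg 0 segs D.W.length = true)
    (h3 : D.fusOK oneCode mmul codes = true) (h4 : ∀ f ∈ D.K, D.Derived f) (h5 : D.secOK = true) (h6 : D.identOK = true)
    {m : ℕ} (hm : m * D.NF.length = 42305421312000)
    {Γ : Type*} [Group Γ] [Finite Γ] {σ : Γ →* OutConway.Two.H} (hσ : Cfsg.IsStemExtension σ)
    {z : Γ} (hz : z ∈ σ.ker) : z ^ m = 1 := by
  have hx := fun i => enc_pick (modelSub OutConway.Two.H) gens_enc hc i
  obtain ⟨E, -, -, hgen⟩ := D.bound_std (modelSub OutConway.Two.H) p hx hNF h1 hp hsh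
    (segs_nodup p pg D hx hT hNF h2) h3 h4 h5 h6 hσ
  simpa [he] using hgen z hz m (hm.trans card_H.symm)

theorem ker_eq_bot {Γ : Type} [Group Γ] [Finite Γ] {σ : Γ →* OutConway.Two.H}
    (hσ : Cfsg.IsStemExtension σ) : σ.ker = ⊥ := by
  rw [eq_bot_iff]
  intro z hz
  have a := pow_eq_one Two.upperData 2 Two.prog Two.sel Two.codes Two.codes_ok rfl rfl Two.rels_ok
    Two.stab_eq (by norm_num) Two.shape_ok Two.segs_ok Two.fus_ok (Two.upperData.derived_of_kOKZ 2 Two.tab_ok Two.k_ok Two.k_ok')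
    Two.sec_ok (Two.upperData.identOK_of_identP Two.pS_eq Two.pK_eq Two.ident_ok) (m := 161382375) (mul_length_NF Two.upperData (p := 2) rfl (d := 18) rfl (by norm_num)) hσ hz
  have b := pow_eq_one Three.upperData 3 Three.prog Three.sel Three.codes Three.codes_ok rfl rfl Three.rels_ok
    Three.stab_eq (by norm_num) Three.shape_ok Three.segs_ok Three.fus_ok (Three.upperData.derived_of_kOKZ 3 Three.tab_ok Three.k_ok Three.k_ok')
    Three.sec_ok (Three.upperData.identOK_of_identP Three.pS_eq Three.pK_eq Three.ident_ok) (m := 58032128000) (mul_length_NF Three.upperData (p := 3) rfl (d := 6) rfl (by norm_num)) hσ hz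
  have c := pow_eq_one Five.upperData 5 Five.prog Five.sel Five.codes Five.codes_ok rfl rfl Five.rels_ok
    Five.stab_eq (by norm_num) Five.shape_ok Five.segs_ok Five.fus_ok (Five.upperData.derived_of_kOKZ 5 Five.tab_ok Five.k_ok Five.k_ok')
    Five.sec_ok (Five.upperData.identOK_of_identP Five.pS_eq Five.pK_eq Five.ident_ok) (m := 338443370496) (mul_length_NF Five.upperData (p := 5) rfl (d := 3) rfl (by norm_num)) hσ hz
  have h1 : orderOf z ∣ 1771 := by
    have := Nat.dvd_gcd (orderOf_dvd_of_pow_eq_one a)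
      (Nat.dvd_gcd (orderOf_dvd_of_pow_eq_one b) (orderOf_dvd_of_pow_eq_one c))
    simpa using this
  have h2 : orderOf z ^ 2 ∣ 42305421312000 := by
    have h3 := Schur.exponent_sq_dvd_index σ.ker hσ.2.1 hσ.2.2
    rw [Subgroup.index_ker, MonoidHom.range_eq_top.mpr hσ.1, Subgroup.card_top, card_H] at h3
    refine dvd_trans (pow_dvd_pow_of_dvd ?_ 2) h3
    rw [← Subgroup.orderOf_mk z hz]
    exact Monoid.order_dvd_exponent _
  have h4 : orderOf z ∈ Nat.divisors 1771 := Nat.mem_divisors.2 ⟨h1, by norm_num⟩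
  have h5 : ∀ e ∈ Nat.divisors 1771, e ^ 2 ∣ 42305421312000 → e = 1 := by decide +kernel
  exact orderOf_eq_one_iff.1 (h5 _ h4 h2)

theorem multiplier : Cfsg.HasCyclicSchurMultiplier OutConway.Two.H 1 := by
  refine ⟨⟨OutConway.Two.H, inferInstance, Nat.finite_of_card_ne_zero (by rw [card_H]; norm_num),
    MonoidHom.id _, ⟨fun x => ⟨x, rfl⟩, ?_, ?_⟩, ⟨?_⟩⟩, fun Γ _ _ σ hσ => ⟨1, ?_⟩⟩
  · simp
  · simp
  · have : Subsingleton (MonoidHom.id OutConway.Two.H).ker := by
      rw [MonoidHom.ker_id]; infer_instance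
    exact { toFun := fun _ => 1, invFun := fun _ => 1, left_inv := fun _ => Subsingleton.elim _ _,
            right_inv := fun _ => Subsingleton.elim _ _, map_mul' := fun _ _ => (one_mul _).symm }
  · intro y
    have hy : (y : Γ) = 1 := Subgroup.mem_bot.1 ((ker_eq_bot hσ).le y.2)
    exact ⟨1, Subtype.ext hy.symm⟩

end CfsgLib.Co2Mult
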